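import Mathlib.Topology.Compactification.OnePoint.ProjectiveLine
import Mathlib.LinearAlgebra.Matrix.GeneralLinearGroup.Projective
import Cfsg.Agent.Classification.SmallOrders.Tools
import Cfsg.Agent.Linear.Basic

/-!
# Transitive groups of degree `p + 1` with a `p`-cycle: coordinates
-/

set_option autoImplicit false
set_option linter.style.haveILetI false
set_option linter.unusedSectionVars false

namespace CfsgLib.Classification.PrimePlusOne

open MulAction
open scoped OnePoint

variable {G α : Type*} [Group G] [MulAction G α] {p : ℕ} [Fact p.Prime]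

/-- Coordinates on `α` in which the stabiliser of `∞` is affine and contains the translations. -/
structure Coord (G α : Type*) [Group G] [MulAction G α] (p : ℕ) [Fact p.Prime] where
  /-- the coordinates -/
  e : OnePoint (ZMod p) ≃ α
  /-- the translations -/
  U : ZMod p → G
  U_add : ∀ x y, U (x + y) = U x * U y
  U_infty : ∀ t, U t • e ∞ = e ∞
  U_coe : ∀ t x : ZMod p, U t • e (x : OnePoint (ZMod p)) = e ((x + t : ZMod p) : OnePoint (ZMod p))
  affine : ∀ g : G, g • e ∞ = e ∞ → ∃ c t : ZMod p, c ≠ 0 ∧ (∀ x, g * U x * g⁻¹ = U (c * x)) ∧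
    ∀ x : ZMod p, g • e (x : OnePoint (ZMod p)) = e ((c * x + t : ZMod p) : OnePoint (ZMod p))

variable [Finite G] [FaithfulSMul G α] [IsPretransitive G α] [Fintype α]

theorem nonempty_coord {d : ℕ} (hα : Fintype.card α = p + 1)
    (hG : Nat.card G = (p + 1) * p * d) (hd : d < p) (hd0 : 0 < d) : Nonempty (Coord G α p) := by
  classical
  have hp : p.Prime := Fact.out
  obtain ⟨a⟩ : Nonempty α := Fintype.card_pos_iff.1 (by omega)
  set M := stabilizer G a with hM
  have hMcard : Nat.card M = p * d := by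
    have h := M.card_mul_index
    rw [index_stabilizer_of_transitive, Nat.card_eq_fintype_card (α := α), hα, hG] at h
    exact Nat.eq_of_mul_eq_mul_right (show 0 < p + 1 by omega) (h.trans (by ring))
  have hpd : ¬ p ∣ d := fun h => absurd (Nat.le_of_dvd hd0 h) (by omega)
  obtain ⟨P⟩ : Nonempty (Sylow p M) := inferInstance
  have hPcard : Nat.card (P : Subgroup M) = p := by
    rw [CfsgLib.Small.card_sylow_eq (k := 1) (m := d) (by rw [hMcard, pow_one]) hpd P, pow_one]
  have hnP : Nat.card (Sylow p M) = 1 := by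
    have h1 : Nat.card (Sylow p M) % p = 1 % p := card_sylow_modEq_one p M
    have h2 : Nat.card (Sylow p M) ∣ d := by
      have h3 := P.card_dvd_index
      have h4 := (P : Subgroup M).card_mul_index
      rw [hPcard, hMcard] at h4
      rwa [Nat.eq_of_mul_eq_mul_left hp.pos h4] at h3
    have h5 := Nat.le_of_dvd hd0 h2
    rw [Nat.mod_eq_of_lt (by omega), Nat.mod_eq_of_lt hp.one_lt] at h1
    exact h1
  haveI : Subsingleton (Sylow p M) := (Nat.card_eq_one_iff_unique.1 hnP).1
  have hPn : (P : Subgroup M).Normal := Sylow.normal_of_subsingleton P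
  haveI : Nontrivial (P : Subgroup M) :=
    Finite.one_lt_card_iff_nontrivial.1 (hPcard.symm ▸ hp.one_lt)
  obtain ⟨⟨u', huP⟩, hu'⟩ := exists_ne (1 : (P : Subgroup M))
  have hu1' : u' ≠ 1 := fun e => hu' (Subtype.ext e)
  have hPu : Subgroup.zpowers u' = (P : Subgroup M) :=
    CfsgLib.Small.eq_zpowers_of_mem_prime hPcard huP hu1'
  have hord : orderOf (u' : G) = p := by
    rw [Subgroup.orderOf_coe, ← Nat.card_zpowers, hPu, hPcard]
  set u : G := (u' : G) with hu
  have hua : u • a = a := u'.2
  obtain ⟨b, hb⟩ : ∃ b : α, u • b ≠ b := by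
    by_contra h
    push Not at h
    have : u = 1 := eq_of_smul_eq_smul (α := α) fun x => by rw [h x, one_smul]
    rw [this, orderOf_one] at hord
    exact hp.ne_one hord.symm
  let U : ZMod p → G := fun x => u ^ x.val
  have hUn : ∀ n : ℕ, u ^ n = U (n : ZMod p) := fun n => by
    show u ^ n = u ^ (n : ZMod p).val
    rw [ZMod.val_natCast, ← hord, pow_mod_orderOf]
  have hU0 : U 0 = 1 := by show u ^ (0 : ZMod p).val = 1; rw [ZMod.val_zero, pow_zero]
  have hU1 : U 1 = u := by
    show u ^ (1 : ZMod p).val = u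
    rw [ZMod.val_one, pow_one]
  have hUadd : ∀ x y, U (x + y) = U x * U y := fun x y => by
    show _ = u ^ x.val * u ^ y.val
    rw [← pow_add, hUn, Nat.cast_add, ZMod.natCast_rightInverse x, ZMod.natCast_rightInverse y]
  have hUmul : ∀ x y, U x ^ y.val = U (x * y) := fun x y => by
    show (u ^ x.val) ^ y.val = _
    rw [← pow_mul, hUn, Nat.cast_mul, ZMod.natCast_rightInverse x, ZMod.natCast_rightInverse y]
  have hUa : ∀ x, U x • a = a := fun x => show u ^ _ ∈ M from pow_mem (show u ∈ M from hua) x.val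
  -- a translation fixing `b` is trivial
  have hfree : ∀ x, U x • b = b → x = 0 := by
    intro x hx
    by_contra hx0
    apply hb
    have h1 : ∀ n : ℕ, U x ^ n • b = b := by
      intro n
      induction n with
      | zero => rw [pow_zero, one_smul]
      | succ n ih => rw [pow_succ, mul_smul, hx, ih]
    have h := h1 x⁻¹.val
    rwa [hUmul, mul_inv_cancel₀ hx0, hU1] at h
  let φ : OnePoint (ZMod p) → α := fun o => o.elim a fun x => U x • b
  have hba : ∀ x, U x • b ≠ a := fun x h =>
    hb (by rw [show b = a from smul_left_cancel (U x) (h.trans (hUa x).symm), hua])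
  have hφinj : Function.Injective φ := by
    intro o o' h
    cases o with
    | infty =>
      cases o' with
      | infty => rfl
      | coe y => exact absurd h.symm (hba y)
    | coe x =>
      cases o' with
      | infty => exact absurd h (hba x)
      | coe y =>
        have h' : U x • b = U y • b := h
        rw [← sub_add_cancel x y, add_comm, hUadd, mul_smul] at h'
        rw [sub_eq_zero.1 (hfree _ (smul_left_cancel _ h'))]
  haveI : Finite (OnePoint (ZMod p)) := inferInstanceAs (Finite (Option (ZMod p)))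
  have hφ : Function.Bijective φ := (Nat.bijective_iff_injective_and_card φ).2 ⟨hφinj, by
    rw [show Nat.card (OnePoint (ZMod p)) = Nat.card (Option (ZMod p)) from rfl,
      Finite.card_option, Nat.card_zmod, Nat.card_eq_fintype_card, hα]⟩
  refine ⟨⟨Equiv.ofBijective φ hφ, U, hUadd, hUa, fun t x => ?_, fun g hg => ?_⟩⟩
  · show U t • U x • b = U (x + t) • b
    rw [add_comm, hUadd, mul_smul]
  · have hconj : g * u * g⁻¹ ∈ (P : Subgroup M).map M.subtype :=
      ⟨⟨g, hg⟩ * u' * ⟨g, hg⟩⁻¹, hPn.conj_mem u' huP ⟨g, hg⟩, rfl⟩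
    obtain ⟨v, hv, hve⟩ := hconj
    rw [← hPu] at hv
    obtain ⟨n, rfl⟩ := mem_powers_iff_mem_zpowers.2 hv
    have hc : g * u * g⁻¹ = U (n : ZMod p) := by rw [← hve, ← hUn]; rfl
    set c := (n : ZMod p) with hcdef
    have hc' : ∀ x, g * U x * g⁻¹ = U (c * x) := fun x => by
      rw [← hUmul c x, ← hc, conj_pow]
    have hc0 : c ≠ 0 := by
      intro h0
      rw [h0, hU0, mul_inv_eq_one, mul_eq_left] at hc
      rw [hc, orderOf_one] at hord
      exact hp.ne_one hord.symm
    obtain ⟨o, ho⟩ := hφ.2 (g • b)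
    cases o with
    | infty =>
      exact absurd (smul_left_cancel g (ho.symm.trans hg.symm)) (by
        intro h; exact hb (by rw [show b = a from h, hua]))
    | coe t =>
      refine ⟨c, t, hc0, hc', fun x => ?_⟩
      show g • U x • b = U (c * x + t) • b
      have ho' : U t • b = g • b := ho
      rw [hUadd, mul_smul, ho', ← hc', mul_smul, mul_smul, inv_smul_smul]

variable (K : Coord G α p)

namespace Coord

theorem U_zero : K.U 0 = 1 := by
  have h := K.U_add 0 0
  rwa [add_zero, left_eq_mul] at h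

theorem card_pair_stab (hα : Fintype.card α = p + 1) {d : ℕ} (hG : Nat.card G = (p + 1) * p * d) :
    Nat.card ↥(stabilizer G (K.e ∞) ⊓ stabilizer G (K.e (0 : ZMod p))) = d := by
  classical
  set D := stabilizer G (K.e ∞) ⊓ stabilizer G (K.e (0 : ZMod p)) with hD
  let f : ZMod p × D → stabilizer G (K.e ∞) := fun r =>
    ⟨K.U r.1 * r.2, mul_mem (K.U_infty r.1) (Subgroup.mem_inf.1 r.2.2).1⟩
  have hf : Function.Bijective f := by
    refine ⟨fun r r' h => ?_, fun g => ?_⟩
    · have h' : K.U r.1 * r.2 = K.U r'.1 * r'.2 := congrArg Subtype.val h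
      have h2 : r.1 = r'.1 := by
        have := congrArg (fun g : G => g • K.e (0 : ZMod p)) h'
        rw [mul_smul, mul_smul, (Subgroup.mem_inf.1 r.2.2).2, (Subgroup.mem_inf.1 r'.2.2).2,
          K.U_coe, K.U_coe, zero_add, zero_add] at this
        exact OnePoint.coe_injective (K.e.injective this)
      rw [h2] at h'
      exact Prod.ext h2 (Subtype.ext (mul_left_cancel h'))
    · obtain ⟨c, t, -, -, hg⟩ := K.affine g g.2
      refine ⟨(t, ⟨(K.U t)⁻¹ * g, Subgroup.mem_inf.2
        ⟨mul_mem (inv_mem (K.U_infty t)) g.2, ?_⟩⟩), Subtype.ext (mul_inv_cancel_left _ _)⟩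
      rw [mem_stabilizer_iff, mul_smul, inv_smul_eq_iff, K.U_coe, hg, mul_zero]
  have h1 := Nat.card_eq_of_bijective f hf
  rw [Nat.card_prod, Nat.card_zmod] at h1
  have h := (stabilizer G (K.e ∞)).card_mul_index
  rw [index_stabilizer_of_transitive, Nat.card_eq_fintype_card (α := α), hα, hG, ← h1] at h
  have hp : 0 < p := (Fact.out : p.Prime).pos
  exact Nat.eq_of_mul_eq_mul_left (show 0 < (p + 1) * p by positivity) (by rw [← h]; ring)

include K in
theorem two_pretransitive : IsMultiplyPretransitive G α 2 := by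
  have key : ∀ {x y : α}, x ≠ y → ∃ g : G, g • x = K.e ∞ ∧ g • y = K.e (0 : ZMod p) := by
    intro x y hxy
    obtain ⟨g, hg⟩ := exists_smul_eq G x (K.e ∞)
    obtain ⟨o, ho⟩ := K.e.surjective (g • y)
    cases o with
    | infty => exact absurd (smul_left_cancel g (hg.trans ho)) hxy
    | coe s =>
      refine ⟨K.U (-s) * g, ?_, ?_⟩
      · rw [mul_smul, hg, K.U_infty]
      · rw [mul_smul, ← ho, K.U_coe, add_neg_cancel]
  rw [is_two_pretransitive_iff]
  intro x y x' y' hxy hxy'
  obtain ⟨g, hg, hg'⟩ := key hxy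
  obtain ⟨k, hk, hk'⟩ := key hxy'
  exact ⟨k⁻¹ * g, by rw [mul_smul, hg, ← hk, inv_smul_smul],
    by rw [mul_smul, hg', ← hk', inv_smul_smul]⟩

theorem eq_one_of_fix {g : G} {c : ZMod p} (hc : c ≠ 0) (hi : g • K.e ∞ = K.e ∞)
    (h0 : g • K.e (0 : ZMod p) = K.e (0 : ZMod p)) (h1 : g • K.e c = K.e c) : g = 1 := by
  obtain ⟨a, t, -, -, h⟩ := K.affine g hi
  rw [h, mul_zero, zero_add] at h0
  have ht : t = 0 := OnePoint.coe_injective (K.e.injective h0)
  rw [h, ht, add_zero] at h1
  have ha : a = 1 := mul_left_eq_self₀.1 (OnePoint.coe_injective (K.e.injective h1)) |>.resolve_right hc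
  refine eq_of_smul_eq_smul (α := α) fun x => ?_
  obtain ⟨o, rfl⟩ := K.e.surjective x
  rw [one_smul]
  cases o with
  | infty => exact hi
  | coe x => rw [h, ha, ht, one_mul, add_zero]

include K in
theorem eq_one_of_three {g : G} {x y z : α} (hxy : x ≠ y) (hyz : y ≠ z) (hxz : x ≠ z)
    (hx : g • x = x) (hy : g • y = y) (hz : g • z = z) : g = 1 := by
  obtain ⟨k, hkx, hky⟩ := is_two_pretransitive_iff.1 K.two_pretransitive hxy
    (K.e.injective.ne (OnePoint.infty_ne_coe (0 : ZMod p)))
  obtain ⟨o, ho⟩ := K.e.surjective (k • z)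
  cases o with
  | infty => exact absurd (smul_left_cancel k (hkx.trans ho)) hxz
  | coe c =>
    have hc : c ≠ 0 := fun h => by
      rw [h, ← hky] at ho
      exact hyz (smul_left_cancel k ho)
    have h := K.eq_one_of_fix (g := k * g * k⁻¹) hc
      (by rw [← hkx, mul_smul, mul_smul, inv_smul_smul, hx])
      (by rw [← hky, mul_smul, mul_smul, inv_smul_smul, hy])
      (by rw [ho, mul_smul, mul_smul, inv_smul_smul, hz])
    rwa [mul_inv_eq_one, mul_eq_left] at h

end Coord

end CfsgLib.Classification.PrimePlusOne
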