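import Mathlib.FieldTheory.Finite.GaloisField
import Mathlib.FieldTheory.Galois.Basic
import Mathlib.NumberTheory.Fermat
import Cfsg.Prelude.Def_Perm
import Cfsg.Agent.Classification.PrimePlusOne.Coord
import Cfsg.Agent.Classification.PSLTwoGeneral.Field

/-!
# Degree `p + 1` with a regular normal subgroup
-/

set_option autoImplicit false
set_option linter.style.haveILetI false
set_option linter.unusedSectionVars false

namespace CfsgLib.Classification.PrimePlusOne

open MulAction
open scoped OnePoint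

variable {G α : Type*} [Group G] [MulAction G α] {p : ℕ} [Fact p.Prime]
  [Finite G] [FaithfulSMul G α] [IsPretransitive G α] [Fintype α]

/-- `Gal(𝔽_{2^q})` has order `q`. -/
theorem card_galois_two (q : ℕ) (hq : q ≠ 0) :
    Nat.card (GaloisField 2 q ≃ₐ[ZMod 2] GaloisField 2 q) = q := by
  rw [IsGalois.card_aut_eq_finrank, GaloisField.finrank 2 hq]

namespace Coord

variable (K : Coord G α p)

theorem smul_conj_of_fix {a : α} {g n : G} (hg : g • a = a) : (g * n * g⁻¹) • a = g • n • a := by
  rw [mul_smul, mul_smul, inv_smul_eq_iff.2 hg.symm]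

include K in
theorem semiaffine_of_regular {d : ℕ} (hα : Fintype.card α = p + 1)
    (hG : Nat.card G = (p + 1) * p * d) (hp2 : p ≠ 2)
    (N : Subgroup G) [N.Normal]
    (hN : ∀ x : α, ∃! n : N, (n : G) • K.e ∞ = x) :
    ∃ q : ℕ, q.Prime ∧ p + 1 = 2 ^ q ∧ (d = 1 ∨ d = q) ∧ ∃ e : α ≃ GaloisField 2 q, ∀ g : G,
      (e.symm.trans ((MulAction.toPerm g).trans e)) ∈ Cfsg.semiaffineGroup (GaloisField 2 q) := by
  classical
  have hp : p.Prime := Fact.out
  set a := K.e ∞ with ha
  let Φ : N → α := fun n => (n : G) • a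
  have hΦ : Function.Bijective Φ := ⟨fun n m h => (hN _).unique h rfl, fun x => (hN x).exists⟩
  have hcard : Nat.card N = p + 1 := by
    rw [Nat.card_eq_of_bijective Φ hΦ, Nat.card_eq_fintype_card, hα]
  have hUmem : ∀ t (n : N), K.U t * n * (K.U t)⁻¹ ∈ N := fun t n => ‹N.Normal›.conj_mem n n.2 _
  have htrans : ∀ n m : N, n ≠ 1 → m ≠ 1 → ∃ t, K.U t * n * (K.U t)⁻¹ = (m : G) := by
    intro n m hn hm
    have hne : ∀ k : N, k ≠ 1 → ∃ x : ZMod p, (k : G) • a = K.e x := by
      intro k hk
      obtain ⟨o, ho⟩ := K.e.surjective ((k : G) • a)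
      cases o with
      | infty => exact absurd (hΦ.1 (a₂ := 1) (ho.symm.trans (one_smul G a).symm)) hk
      | coe x => exact ⟨x, ho.symm⟩
    obtain ⟨x, hx⟩ := hne n hn
    obtain ⟨y, hy⟩ := hne m hm
    refine ⟨y - x, ?_⟩
    have h : Φ ⟨_, hUmem (y - x) n⟩ = Φ m := by
      show (K.U (y - x) * n * (K.U (y - x))⁻¹) • a = (m : G) • a
      rw [smul_conj_of_fix (K.U_infty _), hx, K.U_coe, hy, add_sub_cancel]
    exact congrArg Subtype.val (hΦ.1 h)
  haveI : Fact (Nat.Prime 2) := ⟨Nat.prime_two⟩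
  obtain ⟨z, hz⟩ := exists_prime_orderOf_dvd_card' (G := N) 2 (by
    rw [hcard, ← even_iff_two_dvd]
    exact (hp.odd_of_ne_two hp2).add_one)
  have hz1 : z ≠ 1 := fun h => by rw [h, orderOf_one] at hz; omega
  have hsq : ∀ n : N, n * n = 1 := by
    intro n
    by_cases hn : n = 1
    · rw [hn, one_mul]
    obtain ⟨t, ht⟩ := htrans z n hz1 hn
    have hzz : (z : G) * z = 1 := by
      rw [← pow_two, ← Subgroup.coe_pow, ← hz, pow_orderOf_eq_one, Subgroup.coe_one]
    refine Subtype.ext ?_
    rw [Subgroup.coe_mul, ← ht, Subgroup.coe_one,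
      show K.U t * (z : G) * (K.U t)⁻¹ * (K.U t * z * (K.U t)⁻¹)
        = K.U t * ((z : G) * z) * (K.U t)⁻¹ by group, hzz, mul_one, mul_inv_cancel]
  have hinv : ∀ n : N, n⁻¹ = n := fun n => inv_eq_of_mul_eq_one_left (hsq n)
  have hcomm : ∀ n m : N, n * m = m * n := fun n m => by
    rw [← hinv (n * m), mul_inv_rev, hinv, hinv]
  letI : CommGroup N := { (inferInstance : Group N) with mul_comm := hcomm }
  obtain ⟨q, hq⟩ := (IsPGroup.iff_card (p := 2) (G := N)).1 fun n => ⟨1, by
    rw [pow_one, pow_two, hsq]⟩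
  have hpq : p + 1 = 2 ^ q := by rw [← hcard, hq]
  have hqp : q.Prime := by
    refine (Nat.prime_of_pow_sub_one_prime (a := 2) ?_ (by rw [← hpq, Nat.add_sub_cancel]; exact hp)).2
    rintro rfl
    have := hp.two_le
    omega
  -- the field
  let conj : ∀ g : G, AddMonoid.End (Additive N) := fun g =>
    (MonoidHom.toAdditive (MulAut.conjNormal g : N ≃* N).toMonoidHom)
  have hconj : ∀ (g : G) (v : Additive N),
      ((conj g v).toMul : G) = g * (v.toMul : G) * g⁻¹ := fun g v => MulAut.conjNormal_apply g v.toMul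
  have hext : ∀ v w : Additive N, (v.toMul : G) = (w.toMul : G) → v = w := fun v w h =>
    Additive.toMul.injective (Subtype.ext h)
  have hconjmul : ∀ (g h : G) (v : Additive N), conj (g * h) v = conj g (conj h v) := fun g h v => by
    apply hext
    rw [hconj, hconj, hconj]
    group
  obtain ⟨n₀, hn₀, -⟩ := hN (K.e (0 : ZMod p))
  have hn₀1 : n₀ ≠ 1 := fun h => by
    rw [h, Subgroup.coe_one, one_smul] at hn₀
    exact OnePoint.infty_ne_coe _ (K.e.injective hn₀)
  obtain ⟨F₀, fF₀, ftF₀, τ₀, hFcard, hτ₀, hρ₀⟩ :=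
    CfsgLib.Classification.PSLTwoGeneral.exists_field_of_irreducible (A := Additive N)
    (fun t : ZMod p => conj (K.U t))
    (fun s t => AddMonoidHom.ext fun v => by
      show conj (K.U s) (conj (K.U t) v) = conj (K.U t) (conj (K.U s) v)
      rw [← hconjmul, ← hconjmul, ← K.U_add, ← K.U_add, add_comm])
    (Additive.ofMul n₀) (fun h => hn₀1 h)
    (fun W hW => by
      by_cases hW0 : W = ⊥
      · exact Or.inl hW0
      refine Or.inr (eq_top_iff.2 fun v _ => ?_)
      obtain ⟨w, hw, hw0⟩ : ∃ w ∈ W, w ≠ 0 := by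
        by_contra hcon
        push Not at hcon
        exact hW0 (eq_bot_iff.2 fun w hw => (AddSubgroup.mem_bot).2 (hcon w hw))
      by_cases hv : v = 0
      · rw [hv]; exact zero_mem _
      obtain ⟨t, ht⟩ := htrans w.toMul v.toMul (fun h => hw0 h) (fun h => hv h)
      have hvw : v = conj (K.U t) w := hext _ _ (by rw [hconj]; exact ht.symm)
      rw [hvw]
      exact hW t w hw)
  haveI : Fintype (GaloisField 2 q) := Fintype.ofFinite _
  have hcF : Fintype.card F₀ = Fintype.card (GaloisField 2 q) := by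
    rw [← Nat.card_eq_fintype_card, ← Nat.card_eq_fintype_card, hFcard, GaloisField.card 2 q hqp.ne_zero,
      Nat.card_congr (Additive.toMul (α := N)), hq]
  let ι : GaloisField 2 q ≃+* F₀ := (FiniteField.ringEquivOfCardEq hcF).symm
  let τ : GaloisField 2 q ≃+ Additive N := ι.toAddEquiv.trans τ₀
  have hτ1 : τ 1 = Additive.ofMul n₀ := by
    show τ₀ (ι 1) = _
    rw [map_one, hτ₀]
  have hmulA : ∀ t : ZMod p, ∃ c : GaloisField 2 q, ∀ x, τ (c * x) = conj (K.U t) (τ x) := by
    intro t
    obtain ⟨c, hc⟩ := hρ₀ t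
    refine ⟨ι.symm c, fun x => ?_⟩
    show τ₀ (ι (ι.symm c * x)) = conj (K.U t) (τ₀ (ι x))
    rw [map_mul, ι.apply_symm_apply, hc]
  choose A hA using hmulA
  have hAsurj : ∀ y : GaloisField 2 q, y ≠ 0 → ∃ t, A t = y := by
    intro y hy
    obtain ⟨t, ht⟩ := htrans n₀ (τ y).toMul hn₀1 (fun h => hy (by
      apply τ.injective
      rw [map_zero]
      exact h))
    refine ⟨t, τ.injective ?_⟩
    have h := hA t 1
    rw [mul_one, hτ1] at h
    rw [h]
    exact hext _ _ (by rw [hconj]; exact ht)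
  -- point stabiliser elements are semilinear
  have hsemi : ∀ h : G, h • a = a → ∃ φ : GaloisField 2 q ≃+* GaloisField 2 q, ∃ c : GaloisField 2 q,
      c ≠ 0 ∧ ∀ x, conj h (τ x) = τ (c * φ x) := by
    intro h hh
    obtain ⟨c, -, -, hconjU, -⟩ := K.affine h hh
    let γ : GaloisField 2 q →+ GaloisField 2 q :=
      τ.symm.toAddMonoidHom.comp ((conj h).comp τ.toAddMonoidHom)
    have hγ : ∀ x, τ (γ x) = conj h (τ x) := fun x => τ.apply_symm_apply _
    have hγU : ∀ t x, γ (A t * x) = A (c * t) * γ x := by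
      intro t x
      apply τ.injective
      rw [hγ, hA, hA, hγ, ← hconjmul, ← hconjmul, ← hconjU t, inv_mul_cancel_right]
    have hγinj : Function.Injective γ := by
      intro x y hxy
      apply τ.injective
      have h2 := congrArg (fun v => conj h⁻¹ v) ((hγ x).symm.trans ((congrArg τ hxy).trans (hγ y)))
      simp only [← hconjmul, inv_mul_cancel] at h2
      have h1 : ∀ v, conj 1 v = v := fun v => hext _ _ (by rw [hconj, one_mul, inv_one, mul_one])
      rwa [h1, h1] at h2
    have hc0 : γ 1 ≠ 0 := fun h0 => one_ne_zero (hγinj (h0.trans (map_zero γ).symm))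
    have hmul : ∀ y x, γ (y * x) * γ 1 = γ y * γ x := by
      intro y x
      by_cases hy : y = 0
      · rw [hy, zero_mul, map_zero, zero_mul, zero_mul]
      obtain ⟨t, rfl⟩ := hAsurj y hy
      have h1 := hγU t 1
      rw [mul_one] at h1
      rw [h1, hγU]
      ring
    let φ₀ : GaloisField 2 q →+* GaloisField 2 q :=
      { toFun := fun x => (γ 1)⁻¹ * γ x
        map_one' := inv_mul_cancel₀ hc0
        map_zero' := by rw [map_zero, mul_zero]
        map_add' := fun x y => by rw [map_add, mul_add]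
        map_mul' := fun x y => by
          have := hmul x y
          field_simp
          linear_combination this }
    refine ⟨RingEquiv.ofBijective φ₀ (Finite.injective_iff_bijective.1 φ₀.injective), γ 1, hc0,
      fun x => ?_⟩
    rw [← hγ]
    congr 1
    show γ x = γ 1 * ((γ 1)⁻¹ * γ x)
    rw [mul_inv_cancel_left₀ hc0]
  -- the pair stabiliser embeds into the Galois group
  have hd : d ∣ q := by
    set D := stabilizer G a ⊓ stabilizer G (K.e (0 : ZMod p)) with hD
    have hspec : ∀ h : D, ∃ φ : GaloisField 2 q ≃+* GaloisField 2 q,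
        ∀ x, conj (h : G) (τ x) = τ (φ x) := by
      intro h
      obtain ⟨φ, c, -, hφ⟩ := hsemi h (Subgroup.mem_inf.1 h.2).1
      have hfix : conj (h : G) (Additive.ofMul n₀) = Additive.ofMul n₀ := by
        apply Additive.toMul.injective
        apply hΦ.1
        show ((conj (h : G) (Additive.ofMul n₀)).toMul : G) • a = (n₀ : G) • a
        rw [hconj, smul_conj_of_fix (Subgroup.mem_inf.1 h.2).1]
        show (h : G) • (n₀ : G) • a = _
        rw [hn₀, (Subgroup.mem_inf.1 h.2).2]
      have h1 := hφ 1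
      rw [hτ1, hfix, map_one, mul_one, ← hτ1] at h1
      refine ⟨φ, fun x => ?_⟩
      rw [hφ, ← τ.injective h1, one_mul]
    choose φ hφ using hspec
    letI : Algebra (ZMod 2) (GaloisField 2 q) := inferInstance
    let toGal : (GaloisField 2 q ≃+* GaloisField 2 q) →
        (GaloisField 2 q ≃ₐ[ZMod 2] GaloisField 2 q) := fun e => AlgEquiv.ofRingEquiv (f := e) fun c =>
      DFunLike.congr_fun (Subsingleton.elim
        ((e : GaloisField 2 q →+* GaloisField 2 q).comp (algebraMap (ZMod 2) (GaloisField 2 q)))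
        (algebraMap (ZMod 2) (GaloisField 2 q))) c
    let f : D →* (GaloisField 2 q ≃ₐ[ZMod 2] GaloisField 2 q) :=
      MonoidHom.mk' (fun h => toGal (φ h)) fun h k => AlgEquiv.ext fun x => τ.injective (by
        show τ (φ (h * k) x) = τ (φ h (φ k x))
        rw [← hφ, ← hφ, ← hφ, Subgroup.coe_mul, hconjmul])
    have hf : Function.Injective f := by
      rw [injective_iff_map_eq_one]
      intro h hh
      refine Subtype.ext (eq_of_smul_eq_smul (α := α) fun x => ?_)
      obtain ⟨n, rfl⟩ := hΦ.2 x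
      obtain ⟨y, hy⟩ := τ.surjective (Additive.ofMul n)
      have h1 : φ h y = y := DFunLike.congr_fun hh y
      have h2 := hφ h y
      rw [h1, hy] at h2
      show (h : G) • (n : G) • a = (1 : G) • (n : G) • a
      rw [one_smul, ← smul_conj_of_fix (Subgroup.mem_inf.1 h.2).1]
      have h3 := congrArg (fun v : Additive N => (v.toMul : G)) h2
      rw [hconj] at h3
      exact congrArg (· • a) h3
    have h := Subgroup.card_dvd_of_injective f hf
    rwa [hD, ha, K.card_pair_stab hα hG, card_galois_two q hqp.ne_zero] at h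
  refine ⟨q, hqp, hpq, (Nat.dvd_prime hqp).1 hd, ?_⟩
  let E : GaloisField 2 q ≃ α := (τ.toEquiv.trans Additive.toMul).trans (Equiv.ofBijective Φ hΦ)
  have hE : ∀ y, E y = ((τ y).toMul : G) • a := fun y => rfl
  refine ⟨E.symm, fun g => ?_⟩
  obtain ⟨n, hn, -⟩ := hN (g • a)
  have hh : ((n : G)⁻¹ * g) • a = a := by rw [mul_smul, ← hn, inv_smul_smul]
  obtain ⟨φ, c, hc, hφ⟩ := hsemi _ hh
  refine ⟨Units.mk0 c hc, τ.symm (Additive.ofMul n), φ, fun x => ?_⟩
  show E.symm (g • E x) = _
  rw [Equiv.symm_apply_eq, hE, hE, Units.val_mk0, map_add, ← hφ, τ.apply_symm_apply]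
  conv_lhs => rw [show g = (n : G) * ((n : G)⁻¹ * g) by group, mul_smul,
    ← smul_conj_of_fix hh, ← mul_smul]
  refine congrArg (· • a) ?_
  rw [toMul_add, Subgroup.coe_mul, hconj, toMul_ofMul]
  exact congrArg Subtype.val (hcomm n (conj ((n : G)⁻¹ * g) (τ x)).toMul) |>.trans (by
    rw [Subgroup.coe_mul, hconj])

end Coord

end CfsgLib.Classification.PrimePlusOne
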