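import Cfsg.Agent.Classification.PrimePlusOne.PGL
import Cfsg.Agent.Classification.PrimePlusOne.Semiaffine
import Cfsg.Agent.Classification.PSLTwoGeneral.ZassenhausAbelian
import Cfsg.Agent.Characters.FrobeniusKernel

/-!
# Transitive groups of degree `p + 1` and order `(p + 1) p d` with `d < p`
-/

set_option autoImplicit false
set_option linter.style.haveILetI false
set_option linter.unusedSectionVars false

namespace CfsgLib.Classification.PrimePlusOne

open MulAction
open scoped OnePoint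

variable {G α : Type*} [Group G] [MulAction G α] {p : ℕ} [Fact p.Prime]
  [Finite G] [FaithfulSMul G α] [IsPretransitive G α] [Fintype α]

theorem exists_regular_of_eq_one (K : Coord G α p) (hα : Fintype.card α = p + 1)
    (hG : Nat.card G = (p + 1) * p * 1) :
    ∃ N : Subgroup G, N.Normal ∧ ∀ x : α, ∃! n : N, (n : G) • K.e ∞ = x := by
  classical
  set a := K.e ∞ with ha
  have hfix2 : ∀ (g : G) (x y : α), x ≠ y → g • x = x → g • y = y → g = 1 := by
    intro g x y hxy hx hy
    obtain ⟨k, hk, hk'⟩ := is_two_pretransitive_iff.1 K.two_pretransitive hxy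
      (K.e.injective.ne (OnePoint.infty_ne_coe (0 : ZMod p)))
    have hD := Subgroup.eq_bot_of_card_eq _ (K.card_pair_stab hα hG)
    have hmem : k * g * k⁻¹ ∈ stabilizer G (K.e ∞) ⊓ stabilizer G (K.e (0 : ZMod p)) :=
      Subgroup.mem_inf.2 ⟨by rw [mem_stabilizer_iff, ← hk, mul_smul, mul_smul, inv_smul_smul, hx],
        by rw [mem_stabilizer_iff, ← hk', mul_smul, mul_smul, inv_smul_smul, hy]⟩
    rw [hD, Subgroup.mem_bot, mul_inv_eq_one, mul_eq_left] at hmem
    exact hmem
  obtain ⟨N, hNn, hNc, -⟩ := CfsgLib.Characters.exists_frobenius_kernel (stabilizer G a)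
    (fun g hg x hx hgx => by
      refine hfix2 x a (g⁻¹ • a) ?_ hx ?_
      · intro h
        exact hg (by rw [mem_stabilizer_iff]; conv_lhs => rw [h, smul_inv_smul])
      · have h1 : (g * x * g⁻¹) • a = a := hgx
        rw [eq_inv_smul_iff, ← mul_smul, ← mul_smul]
        exact h1)
  refine ⟨N, hNn, ?_⟩
  let Φ : N → α := fun n => (n : G) • a
  have hinj : Function.Injective Φ := by
    intro n m h
    have h1 : ((m⁻¹ * n : N) : G) ∈ stabilizer G a := by
      rw [mem_stabilizer_iff, Subgroup.coe_mul, Subgroup.coe_inv, mul_smul, inv_smul_eq_iff]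
      exact h
    have h2 : ((m⁻¹ * n : N) : G) = 1 := Subgroup.disjoint_def.1 hNc.disjoint (m⁻¹ * n).2 h1
    have h3 : (m⁻¹ * n : N) = 1 := Subtype.ext h2
    exact (inv_mul_eq_one.1 h3).symm
  have hcard : Nat.card N = Nat.card α := by
    have h := hNc.card_mul
    have h' := (stabilizer G a).card_mul_index
    rw [index_stabilizer_of_transitive, mul_comm] at h'
    have hpos : 0 < Nat.card (stabilizer G a) := Nat.card_pos
    exact Nat.eq_of_mul_eq_mul_right hpos (h.trans h'.symm)
  intro x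
  exact ((Nat.bijective_iff_injective_and_card Φ).2 ⟨hinj, hcard⟩).existsUnique x

theorem psl_or_regular {d : ℕ} (K : Coord G α p) (hα : Fintype.card α = p + 1)
    (hG : Nat.card G = (p + 1) * p * d) (hd0 : 0 < d) (hd : d ≠ p - 1) :
    (2 * d = p - 1 ∧ Nonempty (G ≃* Matrix.ProjectiveSpecialLinearGroup (Fin 2) (ZMod p))) ∨
      ∃ N : Subgroup G, N.Normal ∧ ∀ x : α, ∃! n : N, (n : G) • K.e ∞ = x := by
  classical
  by_cases hd1 : d = 1
  · subst hd1
    exact Or.inr (exists_regular_of_eq_one K hα hG)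
  by_cases hreg : ∃ N : Subgroup G, N.Normal ∧ IsPretransitive N α ∧ ∀ x : α, stabilizer N x = ⊥
  · obtain ⟨N, hNn, hNt, hNs⟩ := hreg
    refine Or.inr ⟨N, hNn, fun x => ?_⟩
    obtain ⟨n, hn⟩ := hNt.exists_smul_eq (K.e ∞) x
    refine ⟨n, hn, fun m hm => ?_⟩
    have h : n⁻¹ * m ∈ stabilizer N (K.e ∞) := by
      rw [mem_stabilizer_iff, mul_smul, inv_smul_eq_iff]
      exact hm.trans hn.symm
    rw [hNs, Subgroup.mem_bot, inv_mul_eq_one] at h
    exact h.symm
  push Not at hreg
  have hZ : Cfsg.IsZassenhausGroup G α := by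
    refine ⟨inferInstance, K.two_pretransitive,
      fun g x y z hxy hyz hxz => K.eq_one_of_three hxy hyz hxz, ?_, hreg⟩
    have hD := K.card_pair_stab hα hG
    have hne : stabilizer G (K.e ∞) ⊓ stabilizer G (K.e (0 : ZMod p)) ≠ ⊥ := fun h => by
      rw [h, Subgroup.card_bot] at hD
      exact hd1 hD.symm
    haveI := (Subgroup.nontrivial_iff_ne_bot _).2 hne
    obtain ⟨⟨g, hg⟩, hg1⟩ := exists_ne (1 : ↥(stabilizer G (K.e ∞) ⊓ stabilizer G (K.e (0 : ZMod p))))
    exact ⟨g, fun h => hg1 (Subtype.ext h), K.e ∞, K.e (0 : ZMod p),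
      K.e.injective.ne (OnePoint.infty_ne_coe _), (Subgroup.mem_inf.1 hg).1, (Subgroup.mem_inf.1 hg).2⟩
  let Uhom : Multiplicative (ZMod p) →* G :=
    MonoidHom.mk' (fun x => K.U x.toAdd) fun x y => K.U_add x.toAdd y.toAdd
  have hUinj : Function.Injective Uhom := by
    intro x y h
    have h1 := congrArg (fun g : G => g • K.e (0 : ZMod p)) h
    simp only [Uhom, MonoidHom.mk'_apply, K.U_coe, zero_add] at h1
    exact Multiplicative.toAdd.injective (OnePoint.coe_injective (K.e.injective h1))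
  have hQcard : Nat.card Uhom.range + 1 = Nat.card α := by
    rw [← Nat.card_congr (MonoidHom.ofInjective hUinj).toEquiv,
      Nat.card_congr (Multiplicative.toAdd (α := ZMod p)), Nat.card_zmod,
      Nat.card_eq_fintype_card, hα]
  have hle : Uhom.range ≤ stabilizer G (K.e ∞) := by
    rintro _ ⟨x, rfl⟩
    exact K.U_infty _
  rcases CfsgLib.Classification.PSLTwoGeneral.abelian_kernel_cases hZ hle
    (fun h hh x hx => by
      obtain ⟨t, rfl⟩ := hx
      obtain ⟨c, -, -, hc, -⟩ := K.affine h hh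
      exact ⟨Multiplicative.ofAdd (c * t.toAdd), (hc t.toAdd).symm⟩)
    (fun x hx hx1 z hz => by
      obtain ⟨t, rfl⟩ := hx
      obtain ⟨o, rfl⟩ := K.e.surjective z
      cases o with
      | infty => rfl
      | coe y =>
        refine absurd ?_ hx1
        have h1 : K.U t.toAdd • K.e y = K.e y := hz
        rw [K.U_coe] at h1
        have h2 : t.toAdd = 0 := by simpa using OnePoint.coe_injective (K.e.injective h1)
        show K.U t.toAdd = 1
        rw [h2, K.U_zero])
    hQcard
    (fun x hx y hy => by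
      obtain ⟨s, rfl⟩ := hx
      obtain ⟨t, rfl⟩ := hy
      rw [← map_mul, ← map_mul, mul_comm]) with ⟨h3, hbot⟩ | ⟨F, fF, ftF, hodd, -, hcard, ⟨e⟩⟩
  · exfalso
    haveI : IsPretransitive G (Fin 3 ↪ α) := h3
    have h2le := (Fact.out : p.Prime).two_le
    obtain ⟨f⟩ : Nonempty (Fin 3 ↪ α) := by
      rw [Function.Embedding.nonempty_iff_card_le, Fintype.card_fin, hα]
      omega
    have h := (stabilizer G f).card_mul_index
    rw [index_stabilizer_of_transitive, hbot, Subgroup.card_bot, one_mul, Nat.card_eq_fintype_card,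
      Fintype.card_embedding_eq, Fintype.card_fin, hα, hG] at h
    obtain ⟨k, rfl⟩ : ∃ k, p = k + 2 := ⟨p - 2, by omega⟩
    simp only [Nat.descFactorial_succ, Nat.descFactorial_zero, mul_one, Nat.sub_zero,
      Nat.add_sub_cancel, show k + 2 + 1 - 2 = k + 1 by omega] at h
    apply hd
    have h' : (k + 2 + 1) * (k + 2) * d = (k + 2 + 1) * (k + 2) * (k + 1) := by
      rw [← h]; ring
    rw [Nat.eq_of_mul_eq_mul_left (by positivity) h']
    omega
  · left
    have hcF : Fintype.card F = p := by omega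
    haveI : NeZero p := ⟨(Fact.out : p.Prime).ne_zero⟩
    have e' : G ≃* Matrix.ProjectiveSpecialLinearGroup (Fin 2) (ZMod p) :=
      e.trans (CfsgLib.Linear.pslFieldCongr (by rw [hcF, ZMod.card]))
    refine ⟨?_, ⟨e'⟩⟩
    have h := CfsgLib.Linear.card_PSL_two_odd hodd
    rw [← Nat.card_congr e.toEquiv, hG, hcF] at h
    obtain ⟨k, rfl⟩ : ∃ k, p = k + 1 := ⟨p - 1, by have := (Fact.out : p.Prime).pos; omega⟩
    rw [show (k + 1) ^ 2 - 1 = k * (k + 2) by
      rw [show (k + 1) ^ 2 = k * (k + 2) + 1 by ring, Nat.add_sub_cancel]] at h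
    have h' : (k + 2) * (k + 1) * (2 * d) = (k + 2) * (k + 1) * k := by linear_combination h
    rw [Nat.eq_of_mul_eq_mul_left (by positivity) h']
    omega

theorem main {d : ℕ} (hp : p.Prime) (hα : Fintype.card α = p + 1)
    (hG : Nat.card G = (p + 1) * p * d) (hd : d < p) :
    (d = p - 1 ∧ Nonempty (G ≃* Matrix.ProjGenLinGroup (Fin 2) (ZMod p))) ∨
    (2 * d = p - 1 ∧ Nonempty (G ≃* Matrix.ProjectiveSpecialLinearGroup (Fin 2) (ZMod p))) ∨
    (∃ q : ℕ, q.Prime ∧ p + 1 = 2 ^ q ∧ (d = 1 ∨ d = q) ∧ ∃ e : α ≃ GaloisField 2 q, ∀ g : G,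
      (e.symm.trans ((MulAction.toPerm g).trans e)) ∈ Cfsg.semiaffineGroup (GaloisField 2 q)) := by
  classical
  have hd0 : 0 < d := Nat.pos_of_ne_zero fun h => by
    have := Nat.card_pos (α := G)
    rw [hG, h, mul_zero] at this
    omega
  obtain ⟨K⟩ := nonempty_coord hα hG hd hd0
  by_cases hdp : d = p - 1
  · subst hdp
    exact Or.inl ⟨rfl, K.nonempty_equiv_pgl hα hG⟩
  rcases psl_or_regular K hα hG hd0 hdp with h | ⟨N, hNn, hN⟩
  · exact Or.inr (Or.inl h)
  · refine Or.inr (Or.inr (K.semiaffine_of_regular hα hG ?_ N hN))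
    rintro rfl
    omega

end CfsgLib.Classification.PrimePlusOne
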