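import Cfsg.Agent.Classification.PrimePlusOne.Coord

/-!
# The sharply triply transitive group of degree `p + 1` is `PGL(2, p)`
-/

set_option autoImplicit false
set_option linter.style.haveILetI false
set_option linter.unusedSectionVars false

namespace CfsgLib.Classification.PrimePlusOne

open MulAction
open scoped OnePoint MatrixGroups
open Matrix

variable {p : ℕ} [Fact p.Prime]

/-- The Möbius action as a homomorphism. -/
noncomputable def glPerm (p : ℕ) [Fact p.Prime] : GL (Fin 2) (ZMod p) →* Equiv.Perm (OnePoint (ZMod p)) :=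
  MulAction.toPermHom (GL (Fin 2) (ZMod p)) (OnePoint (ZMod p))

theorem glPerm_scalar (u : (ZMod p)ˣ) : glPerm p (GeneralLinearGroup.scalar (Fin 2) u) = 1 := by
  refine Equiv.ext fun o => ?_
  show GeneralLinearGroup.scalar (Fin 2) u • o = o
  cases o with
  | infty => rw [OnePoint.smul_infty_eq_self_iff]; simp
  | coe x =>
    rw [OnePoint.smul_some_eq_ite]
    simp

/-- `PGL(2, p)` acting on the projective line. -/
noncomputable def pglPerm (p : ℕ) [Fact p.Prime] :
    Matrix.ProjGenLinGroup (Fin 2) (ZMod p) →* Equiv.Perm (OnePoint (ZMod p)) :=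
  ProjGenLinGroup.lift (glPerm p) (MonoidHom.ext glPerm_scalar)

theorem pglPerm_injective : Function.Injective (pglPerm p) := by
  rw [injective_iff_map_eq_one]
  intro x hx
  obtain ⟨g, rfl⟩ := ProjGenLinGroup.mk_surjective x
  have h : ∀ o : OnePoint (ZMod p), g • o = o := fun o => by
    have := congrArg (fun σ : Equiv.Perm (OnePoint (ZMod p)) => σ o) hx
    exact this
  have hc : g 1 0 = 0 := OnePoint.smul_infty_eq_self_iff.1 (h ∞)
  have h0 := h ((0 : ZMod p) : OnePoint (ZMod p))
  have h1 := h ((1 : ZMod p) : OnePoint (ZMod p))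
  rw [OnePoint.smul_some_eq_ite] at h0 h1
  have hd : g 1 1 ≠ 0 := fun hd => by
    rw [if_pos (by rw [hd, mul_zero, add_zero])] at h0
    exact OnePoint.infty_ne_coe _ h0
  rw [if_neg (by rw [mul_zero, zero_add]; exact hd), OnePoint.coe_eq_coe, mul_zero, zero_add,
    mul_zero, zero_add, div_eq_zero_iff] at h0
  have hb : g 0 1 = 0 := h0.resolve_right hd
  rw [if_neg (by rw [hc, zero_mul, zero_add]; exact hd), OnePoint.coe_eq_coe, hc, hb, zero_mul,
    zero_add, add_zero, mul_one, div_eq_one_iff_eq hd] at h1
  rw [ProjGenLinGroup.mk_eq_one, GeneralLinearGroup.center_eq_range_scalar]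
  refine ⟨Units.mk0 _ hd, Units.ext (Matrix.ext fun i j => ?_)⟩
  fin_cases i <;> fin_cases j <;> simp [hc, hb, h1]

theorem card_pglPerm_range : Nat.card (pglPerm p).range = p * (p ^ 2 - 1) := by
  rw [← Nat.card_congr (MonoidHom.ofInjective (pglPerm_injective (p := p))).toEquiv,
    CfsgLib.Linear.card_PGL, CfsgLib.Linear.card_SL_two, ZMod.card]

theorem glPerm_mem_range (g : GL (Fin 2) (ZMod p)) : glPerm p g ∈ (pglPerm p).range :=
  ⟨ProjGenLinGroup.mk g, rfl⟩

/-- The matrix of a Möbius transformation. -/
noncomputable def mat (a b c d : ZMod p) (h : a * d - b * c ≠ 0) : GL (Fin 2) (ZMod p) :=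
  GeneralLinearGroup.mkOfDetNeZero !![a, b; c, d] (by rw [det_fin_two_of]; exact h)

variable {G α : Type*} [Group G] [MulAction G α] [Finite G] [FaithfulSMul G α]
  [IsPretransitive G α] [Fintype α]

namespace Coord

variable (K : Coord G α p)

/-- The action in coordinates. -/
noncomputable def hom : G →* Equiv.Perm (OnePoint (ZMod p)) :=
  (K.e.symm.permCongrHom : Equiv.Perm α →* Equiv.Perm (OnePoint (ZMod p))).comp
    (MulAction.toPermHom G α)

theorem hom_apply (g : G) (o : OnePoint (ZMod p)) : K.hom g o = K.e.symm (g • K.e o) := rfl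

theorem hom_injective : Function.Injective K.hom :=
  K.e.symm.permCongrHom.injective.comp MulAction.toPerm_injective

theorem exists_scale (hα : Fintype.card α = p + 1) (hG : Nat.card G = (p + 1) * p * (p - 1))
    {c : ZMod p} (hc : c ≠ 0) : ∃ g : G, g • K.e ∞ = K.e ∞ ∧
      ∀ x : ZMod p, g • K.e x = K.e ((c * x : ZMod p) : OnePoint (ZMod p)) := by
  classical
  set D := stabilizer G (K.e ∞) ⊓ stabilizer G (K.e (0 : ZMod p)) with hD
  have hspec : ∀ g : D, ∃ a : (ZMod p)ˣ, ∀ x : ZMod p,
      (g : G) • K.e x = K.e (((a : ZMod p) * x : ZMod p) : OnePoint (ZMod p)) := by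
    intro g
    obtain ⟨a, t, ha, -, h⟩ := K.affine g (Subgroup.mem_inf.1 g.2).1
    have h0 : (g : G) • K.e (0 : ZMod p) = K.e (0 : ZMod p) := (Subgroup.mem_inf.1 g.2).2
    rw [h, mul_zero, zero_add] at h0
    have ht : t = 0 := OnePoint.coe_injective (K.e.injective h0)
    exact ⟨Units.mk0 a ha, fun x => by rw [h, ht, add_zero, Units.val_mk0]⟩
  choose f hf using hspec
  have hinj : Function.Injective f := by
    intro g k hgk
    refine Subtype.ext (eq_of_smul_eq_smul (α := α) fun x => ?_)
    obtain ⟨o, rfl⟩ := K.e.surjective x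
    cases o with
    | infty => exact (Subgroup.mem_inf.1 g.2).1.trans (Subgroup.mem_inf.1 k.2).1.symm
    | coe x => rw [hf, hf, hgk]
  have hbij : Function.Bijective f := (Nat.bijective_iff_injective_and_card f).2 ⟨hinj, by
    rw [K.card_pair_stab hα hG, Nat.card_units, Nat.card_zmod]⟩
  obtain ⟨g, hg⟩ := hbij.2 (Units.mk0 c hc)
  exact ⟨g, (Subgroup.mem_inf.1 g.2).1, fun x => by rw [hf, hg, Units.val_mk0]⟩

theorem exists_swap (hα : Fintype.card α = p + 1) (hG : Nat.card G = (p + 1) * p * (p - 1)) :
    ∃ w : G, w • K.e ∞ = K.e (0 : ZMod p) ∧ w • K.e (0 : ZMod p) = K.e ∞ ∧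
      ∀ x : ZMod p, x ≠ 0 → w • K.e x = K.e ((x⁻¹ : ZMod p) : OnePoint (ZMod p)) := by
  classical
  have hi0 : K.e ∞ ≠ K.e (0 : ZMod p) := K.e.injective.ne (OnePoint.infty_ne_coe _)
  have hi1 : K.e ∞ ≠ K.e (1 : ZMod p) := K.e.injective.ne (OnePoint.infty_ne_coe _)
  have h01 : K.e (0 : ZMod p) ≠ K.e (1 : ZMod p) := fun h =>
    zero_ne_one (OnePoint.coe_injective (K.e.injective h))
  obtain ⟨v, hv, hv'⟩ := is_two_pretransitive_iff.1 K.two_pretransitive hi0 hi0.symm
  obtain ⟨o, ho⟩ := K.e.surjective (v • K.e (1 : ZMod p))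
  cases o with
  | infty => exact absurd (smul_left_cancel v (hv'.trans ho)) h01
  | coe s =>
    have hs : s ≠ 0 := fun h => by
      rw [h, ← hv] at ho
      exact hi1 (smul_left_cancel v ho)
    obtain ⟨a, hai, ha⟩ := K.exists_scale hα hG (inv_ne_zero hs)
    have hwi : (a * v) • K.e ∞ = K.e (0 : ZMod p) := by rw [mul_smul, hv, ha, mul_zero]
    have hw0 : (a * v) • K.e (0 : ZMod p) = K.e ∞ := by rw [mul_smul, hv', hai]
    have hw1 : (a * v) • K.e (1 : ZMod p) = K.e (1 : ZMod p) := by
      rw [mul_smul, ← ho, ha, inv_mul_cancel₀ hs]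
    refine ⟨a * v, hwi, hw0, ?_⟩
    generalize a * v = w at hwi hw0 hw1
    have hww : w * w = 1 := K.eq_one_of_three hi0 h01 hi1 (by rw [mul_smul, hwi, hw0])
      (by rw [mul_smul, hw0, hwi]) (by rw [mul_smul, hw1, hw1])
    have hw2 : ∀ y : α, w • w • y = y := fun y => by rw [← mul_smul, hww, one_smul]
    have hex : ∀ x : ZMod p, x ≠ 0 → ∃ y : ZMod p, y ≠ 0 ∧ w • K.e x = K.e y := by
      intro x hx
      obtain ⟨o, ho⟩ := K.e.surjective (w • K.e x)
      cases o with
      | infty =>
        refine absurd ?_ hx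
        rw [← hw0] at ho
        exact (OnePoint.coe_injective (K.e.injective (smul_left_cancel w ho))).symm
      | coe y =>
        refine ⟨y, fun h => OnePoint.infty_ne_coe x ?_, ho.symm⟩
        rw [h, ← hwi] at ho
        exact K.e.injective (smul_left_cancel w ho)
    choose f hf0 hf using hex
    have hfu : ∀ {x y : ZMod p} (hx : x ≠ 0), w • K.e x = K.e y → f x hx = y := fun hx h =>
      OnePoint.coe_injective (K.e.injective ((hf _ hx).symm.trans h))
    have hf1 : f 1 one_ne_zero = 1 := hfu _ hw1
    have hff : ∀ x (hx : x ≠ 0), f (f x hx) (hf0 x hx) = x := fun x hx =>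
      hfu _ (by rw [← hf x hx, hw2])
    -- multiplicativity
    have hmul : ∀ (x y : ZMod p) (hx : x ≠ 0) (hy : y ≠ 0),
        f (x * y) (mul_ne_zero hx hy) = f x hx * f y hy := by
      intro x y hx hy
      obtain ⟨b, hbi, hb⟩ := K.exists_scale hα hG hx
      have hki : (w * b * w) • K.e ∞ = K.e ∞ := by
        rw [mul_smul, mul_smul, hwi, hb, mul_zero, hw0]
      have hk0 : (w * b * w) • K.e (0 : ZMod p) = K.e (0 : ZMod p) := by
        rw [mul_smul, mul_smul, hw0, hbi, hwi]
      obtain ⟨c, t, -, -, hk⟩ := K.affine _ hki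
      rw [hk, mul_zero, zero_add] at hk0
      have ht : t = 0 := OnePoint.coe_injective (K.e.injective hk0)
      have hk1 := hk 1
      rw [mul_smul, mul_smul, hw1, hb, mul_one, hf x hx, ht, add_zero, mul_one] at hk1
      have hc : f x hx = c := OnePoint.coe_injective (K.e.injective hk1)
      have hky := hk (f y hy)
      rw [mul_smul, mul_smul, hf _ (hf0 y hy), hff, hb, ht, add_zero, ← hc] at hky
      exact hfu _ hky
    have hneg : ∀ (h : (-1 : ZMod p) ≠ 0), f (-1) h = -1 := by
      intro h
      have h2 := hmul (-1) (-1) h h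
      simp only [neg_mul_neg, one_mul, hf1] at h2
      rcases mul_self_eq_one_iff.1 h2.symm with h3 | h3
      · have h4 : f (f (-1) h) (hf0 _ h) = 1 := by simp only [h3, hf1]
        rw [hff] at h4
        rw [h3]
        exact h4.symm
      · exact h3
    -- the additive relation
    have hrel : ∀ (x : ZMod p) (hx : x ≠ 0) (hfx : f x hx + 1 ≠ 0) (hx1 : x + 1 ≠ 0),
        f (f x hx + 1) hfx = 1 - f (x + 1) hx1 := by
      set g := w * (K.U (-1) * w * K.U 1 * w) with hg
      have hgi : g • K.e ∞ = K.e ∞ := by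
        rw [hg, mul_smul, mul_smul, mul_smul, mul_smul, hwi, K.U_coe, zero_add, hw1, K.U_coe,
          add_neg_cancel, hw0]
      obtain ⟨α₁, β, -, -, hga⟩ := K.affine g hgi
      have hgx : ∀ y : α, (w * K.U 1 * w) • y = (K.U 1 * w) • g • y := by
        intro y
        have hU : K.U 1 * K.U (-1) = 1 := by
          rw [← K.U_add, add_neg_cancel, K.U_zero]
        rw [← mul_smul]
        refine congrArg (· • y) ?_
        calc w * K.U 1 * w = K.U 1 * (w * w) * K.U (-1) * w * K.U 1 * w := by
              rw [hww, mul_one, hU, one_mul]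
          _ = K.U 1 * w * g := by rw [hg]; group
      have hn1 : (-1 : ZMod p) ≠ 0 := neg_ne_zero.2 one_ne_zero
      have hβ : β = -1 := by
        have h := hgx (K.e (0 : ZMod p))
        rw [hga, mul_zero, zero_add, mul_smul, mul_smul, hw0, K.U_infty, hwi, mul_smul] at h
        have hβ0 : β ≠ 0 := fun hb0 => by
          rw [hb0, hw0, K.U_infty] at h
          exact hi0 h.symm
        rw [hf β hβ0, K.U_coe] at h
        have h2 : f β hβ0 = -1 :=
          eq_neg_of_add_eq_zero_left (OnePoint.coe_injective (K.e.injective h)).symm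
        calc β = f (f β hβ0) (hf0 β hβ0) := (hff β hβ0).symm
          _ = f (-1) hn1 := by simp only [h2]
          _ = -1 := hneg hn1
      have hα₁ : α₁ = -1 := by
        have h := hgx (K.e ((-1 : ZMod p) : OnePoint (ZMod p)))
        rw [hga, mul_smul, mul_smul, hf _ hn1, hneg, K.U_coe, neg_add_cancel, hw0, mul_smul] at h
        have h1 : K.U 1 • K.e ∞ = K.U 1 • w • K.e ((α₁ * -1 + β : ZMod p) : OnePoint (ZMod p)) := by
          rw [K.U_infty]; exact h
        have h2 := smul_left_cancel _ h1
        rw [← hw0] at h2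
        have h3 := OnePoint.coe_injective (K.e.injective (smul_left_cancel w h2))
        rw [hβ] at h3
        linear_combination h3
      intro x hx hfx hx1
      have h := hgx (K.e x)
      rw [hga, hα₁, hβ, mul_smul, mul_smul, hf x hx, K.U_coe, hf _ hfx, mul_smul] at h
      have hx2 : -1 * x + -1 ≠ (0 : ZMod p) := fun h' => hx1 (by linear_combination -h')
      rw [hf _ hx2, K.U_coe] at h
      have h2 := OnePoint.coe_injective (K.e.injective h)
      have h3 : f (-1 * x + -1) hx2 = - f (x + 1) hx1 := by
        have h4 := hmul (-1) (x + 1) hn1 hx1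
        rw [hneg, neg_one_mul (f (x + 1) hx1)] at h4
        simp only [show -1 * x + -1 = (-1 : ZMod p) * (x + 1) by ring]
        exact h4
      rw [h2, h3]
      ring
    have hinv : ∀ n : ℕ, ∀ (hn : (n : ZMod p) ≠ 0), n < p → f (n : ZMod p) hn = (n : ZMod p)⁻¹ := by
      intro n
      induction n with
      | zero => exact fun hn => absurd Nat.cast_zero hn
      | succ k ih =>
        intro hn hk
        by_cases hk0 : k = 0
        · subst hk0
          simp only [zero_add, Nat.cast_one, hf1, inv_one]
        · have hk' : (k : ZMod p) ≠ 0 := fun h => by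
            rw [ZMod.natCast_eq_zero_iff] at h
            exact absurd (Nat.le_of_dvd (Nat.pos_of_ne_zero hk0) h) (by omega)
          have ihk := ih hk' (by omega)
          have hn' : (k : ZMod p) + 1 ≠ 0 := by simpa using hn
          have hfx : f k hk' + 1 ≠ 0 := by
            rw [ihk, inv_eq_one_div, div_add_one hk', add_comm]
            exact div_ne_zero hn' hk'
          have h1 := hrel k hk' hfx hn'
          have h2 : f (f k hk' + 1) hfx =
              f ((k : ZMod p) + 1) hn' * f (k : ZMod p)⁻¹ (inv_ne_zero hk') := by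
            rw [← hmul]
            congr 1
            rw [ihk, add_mul, mul_inv_cancel₀ hk', one_mul, add_comm]
          have h3 : f (k : ZMod p)⁻¹ (inv_ne_zero hk') = k := by
            simp only [← ihk, hff]
          rw [h3] at h2
          simp only [Nat.cast_succ]
          refine eq_inv_of_mul_eq_one_left ?_
          linear_combination h1 - h2
    intro x hx
    rw [hf x hx]
    have hxv : ((x.val : ℕ) : ZMod p) = x := ZMod.natCast_rightInverse x
    have h := hinv x.val (by rw [hxv]; exact hx) (ZMod.val_lt x)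
    simp only [hxv] at h
    rw [h]

include K in
theorem nonempty_equiv_pgl (hα : Fintype.card α = p + 1)
    (hG : Nat.card G = (p + 1) * p * (p - 1)) :
    Nonempty (G ≃* Matrix.ProjGenLinGroup (Fin 2) (ZMod p)) := by
  classical
  obtain ⟨w, hwi, hw0, hw⟩ := K.exists_swap hα hG
  have haff : ∀ g : G, g • K.e ∞ = K.e ∞ → K.hom g ∈ (pglPerm p).range := by
    intro g hg
    obtain ⟨c, t, hc, -, h⟩ := K.affine g hg
    have heq : K.hom g = glPerm p (mat c t 0 1 (by simpa using hc)) := by
      refine Equiv.ext fun o => ?_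
      rw [K.hom_apply, Equiv.symm_apply_eq]
      cases o with
      | infty =>
        rw [hg]
        congr 1
        exact (OnePoint.smul_infty_eq_self_iff.2 (by simp [mat])).symm
      | coe x =>
        rw [h]
        congr 1
        rw [glPerm, MulAction.toPermHom_apply, MulAction.toPerm_apply]
        rw [OnePoint.smul_some_eq_ite]
        simp [mat]
    rw [heq]
    exact glPerm_mem_range _
  have hwmem : K.hom w ∈ (pglPerm p).range := by
    have heq : K.hom w = glPerm p (mat 0 1 1 0 (by simp)) := by
      refine Equiv.ext fun o => ?_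
      rw [K.hom_apply, Equiv.symm_apply_eq]
      cases o with
      | infty =>
        rw [hwi]
        congr 1
        rw [glPerm, MulAction.toPermHom_apply, MulAction.toPerm_apply]
        rw [OnePoint.smul_infty_eq_ite]
        simp [mat]
      | coe x =>
        by_cases hx : x = 0
        · subst hx
          rw [hw0]
          congr 1
          rw [glPerm, MulAction.toPermHom_apply, MulAction.toPerm_apply]
          rw [OnePoint.smul_some_eq_ite]
          simp [mat]
        · rw [hw x hx]
          congr 1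
          rw [glPerm, MulAction.toPermHom_apply, MulAction.toPerm_apply]
          rw [OnePoint.smul_some_eq_ite]
          simp [mat, hx]
    rw [heq]
    exact glPerm_mem_range _
  have hle : K.hom.range ≤ (pglPerm p).range := by
    rintro _ ⟨g, rfl⟩
    obtain ⟨o, ho⟩ := K.e.surjective (g • K.e ∞)
    cases o with
    | infty => exact haff g ho.symm
    | coe t =>
      have h1 : (w * K.U (-t) * g) • K.e ∞ = K.e ∞ := by
        rw [mul_smul, mul_smul, ← ho, K.U_coe, add_neg_cancel, hw0]
      have h2 : g = (w * K.U (-t))⁻¹ * (w * K.U (-t) * g) := by group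
      rw [h2, map_mul, map_inv, map_mul]
      exact mul_mem (inv_mem (mul_mem hwmem (haff _ (K.U_infty _)))) (haff _ h1)
  have heq : K.hom.range = (pglPerm p).range := by
    refine Subgroup.eq_of_le_of_card_ge hle (le_of_eq ?_)
    rw [← Nat.card_congr (MonoidHom.ofInjective K.hom_injective).toEquiv, card_pglPerm_range, hG]
    obtain ⟨k, rfl⟩ : ∃ k, p = k + 1 := ⟨p - 1, by have := (Fact.out : p.Prime).pos; omega⟩
    rw [Nat.add_sub_cancel, show (k + 1) ^ 2 - 1 = k * (k + 2) by
      rw [show (k + 1) ^ 2 = k * (k + 2) + 1 by ring, Nat.add_sub_cancel]]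
    ring
  exact ⟨(MonoidHom.ofInjective K.hom_injective).trans ((MulEquiv.subgroupCongr heq).trans
    (MonoidHom.ofInjective pglPerm_injective).symm)⟩

end Coord

end CfsgLib.Classification.PrimePlusOne
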